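import Cfsg.Agent.Omega.NO3S.Fld.WFour.End
import Cfsg.Agent.Omega.NO3S.Fld.LOf
import Cfsg.Agent.Omega.NO3S.HypL

/-!
# Fld, `q = 4`, one offender : the plugs

`V = V_P` natural for `SL₂(4)`, `|Ω₁(Z(S))| ≠ 4`, `P₂ ∈ P(S)`, `P₂ ≤ C_G(Z)` moves `R`, `O₂(P₂)` moves `R`, `O5 S P P₂ A`:

* `exists_four_of_o5` : some `P₁ ∈ P*(S)`, `P₁ ≤ P`, is nonlocal with `C_G(Z)`, `|V_{P₁}| = 4`;
* `false_of_o5` : impossible if no `V_R`, `R ∈ P**`, has order 4 (`HypF`).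
-/

set_option autoImplicit false

namespace Cfsg.Agent.Omega.NO3S.Fld.WFour

open Subgroup Cfsg Cfsg.Agent.ZN Cfsg.Agent.Omega.MinPar Cfsg.Agent.Omega.FrameNOFF

universe u

variable {G : Type u} [Group G] [Finite G] {S : Sylow 2 G} {P P2 : Subgroup G}
variable {F : Type*} [Field F] [Finite F] [CharP F 2]

theorem exists_four_of_o5 (h : Hyp S P) (M : Crd F (S : Subgroup G) P (zl (S : Subgroup G) P))
    (hF : Nat.card F = 4) (hZ : Nat.card (zc (S : Subgroup G)) ≠ 4) (par : IsPar (S : Subgroup G) P2)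
    (le : P2 ≤ CZ (S : Subgroup G)) (mv : ¬ P2 ≤ normalizer (M.R : Set G))
    (nQR : ¬ o2 P2 ≤ centralizer (M.R : Set G)) {A : Subgroup G} (o : O5 S P P2 A) :
    ∃ P1 : Subgroup G, IsParS (S : Subgroup G) P1 ∧ P1 ≤ P ∧ NonLoc P1 (CZ (S : Subgroup G)) ∧
      Nat.card (zl (S : Subgroup G) P1) = 4 := by
  obtain ⟨V3, z, hmod, hfix, hzS⟩ := exists_mod h M hF hZ
  have hb : B5 S P P2 M.R V3 z :=
    { hyp := h
      mod := hmod
      fix4 := hfix
      zS := hzS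
      par := par
      le := le
      mv := mv
      nQR := nQR }
  exact hb.exists_four M hF rfl (hb.norm_V FF.Glob.aStmt.{u} o)

theorem false_of_o5 (h : HypF S P) (M : Crd F (S : Subgroup G) P (zl (S : Subgroup G) P))
    (hF : Nat.card F = 4) (hZ : Nat.card (zc (S : Subgroup G)) ≠ 4) (par : IsPar (S : Subgroup G) P2)
    (le : P2 ≤ CZ (S : Subgroup G)) (mv : ¬ P2 ≤ normalizer (M.R : Set G))
    (nQR : ¬ o2 P2 ≤ centralizer (M.R : Set G)) {A : Subgroup G} (o : O5 S P P2 A) : False := by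
  obtain ⟨P1, h1, -, h2, h3⟩ := exists_four_of_o5 h.toHyp M hF hZ par le mv nQR o
  exact h.four P1 ⟨h1, h2⟩ h3

end Cfsg.Agent.Omega.NO3S.Fld.WFour
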