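import Cfsg.Agent.Omega.NO3S.Fld.WFour.CaseA

/-!
# Fld, `q = 4`, one offender : the case `[V₃, Q] ≰ ⟨z⟩` (port of `LLess`)

* `B5.norm_Ry`, `B5.false_Ry` : `A₀ = A ∩ Q ≤ C(X)`, `A₀ ≰ C(U)` is impossible: `A` would normalise all `R^y`;
* `B5.norm_V3` : **one offender ⟹ `P₂ ≤ N_G(V₃)`**; `B5.two_of`.
-/

set_option autoImplicit false
set_option linter.unusedSectionVars false

namespace Cfsg.Agent.Omega.NO3S.Fld.WFour

open Subgroup Cfsg Cfsg.Agent.ZN Cfsg.Agent.ZN.ChoiceBase Cfsg.Agent.Omega.MinPar Cfsg.Agent.Omega.FrameNOFF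
open Cfsg.Agent.ZN.ChoiceSit (Syl syl_iff syl_not_dvd o2_le_syl isPGroup_o2)
open Cfsg.Agent.MinSimple.MinParabolic (IsMinPar)
open Cfsg.Agent.MinSimple.VModule (oddGen oddGen_le mem_oddGen le_normalizer_oddGen le_normalizer_o2 o2_le
  zc_le zc_le_zl le_normalizer_zl zc_sq zc_comm le_centralizer_zc)
open Cfsg.Agent.Omega.NO3b.EZero (cl cj_le_cl le_cl cl_le cj_cl le_normalizer_cl cent_symm cj_cent cj_norm
  sq_of_comm oddGen_sup_syl mem_cj_self relIndex_cj le_normalizer_inf_cent)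
open Cfsg.Agent.Omega.NO3b.K0 (conj_mem' cj_of_le cj_self NoOv noOv)
open Cfsg.Agent.Omega.NO3S.NotFF (le_normalizer_of_forall normalizer_inf normalizer_sup normalizer_centralizer
  normalizer_commutator)
open Cfsg.Agent.Omega.SQ1.Bau (card_sup_comm mem_sup_comm)
open Cfsg.Agent.Omega.NO1.BestOff (Best)
open Cfsg.Agent.Omega.FFThm (ElemM)
open scoped commutatorElement

universe u

namespace B5

variable {G : Type u} [Group G] [Finite G] {S : Sylow 2 G} {P P2 R V3 : Subgroup G} {z : G}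
  (h : B5 S P P2 R V3 z)
include h

theorem P2_X : P2 ≤ normalizer (cl R P2 : Set G) := h.X_norm

/-- `x ≤ |X : C_X(A)|` -/
theorem no_X (hN : NoOv P2) {A : Subgroup G} (o : O5 S P P2 A) :
    (o2 P2).relIndex A ≤ (centralizer (A : Set G)).relIndex (cl R P2) := by
  obtain ⟨hA2, hAc⟩ := h.A_o2 o
  have h1 := hN.gen (N := ⊥) (Y := cl R P2) (D := cl R P2 ⊓ centralizer (A : Set G)) bot_le
    (h.X_le_U.trans h.U_le_P2) h.X_sq h.X_comm (NO3S.NotFF.le_normalizer_bot P2) h.X_norm (fun h0 =>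
      h.E_cent_R (cent_symm (h.R_le_X.trans (commutator_eq_bot_iff_le_centralizer.1 (le_bot_iff.1 h0)))))
    (o.le.trans h.S_le) hA2 hAc inf_le_left
    (le_bot_iff.2 (commutator_eq_bot_iff_le_centralizer.2 inf_le_right))
  rwa [inf_relIndex_left] at h1

/-- `|A| = x |A₀|` -/
theorem card_A (A : Subgroup G) : (o2 P2).relIndex A * Nat.card ↥(A ⊓ o2 P2) = Nat.card A := relIndex_mul_card _ _

/-- `C_U(A₀) = X C_U(A)` if `A₀ ≤ C(X)` -/
theorem cU (hN : NoOv P2) {A : Subgroup G} (o : O5 S P P2 A)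
    (hAX : A ⊓ o2 P2 ≤ centralizer (cl R P2 : Set G)) :
    cl (zl (S : Subgroup G) P) P2 ⊓ centralizer ((A ⊓ o2 P2 : Subgroup G) : Set G) ≤
      cl R P2 ⊔ (cl (zl (S : Subgroup G) P) P2 ⊓ centralizer (A : Set G)) := by
  set U := cl (zl (S : Subgroup G) P) P2 with hU
  set X := cl R P2 with hX
  set A0 := A ⊓ o2 P2 with hA0
  set C := centralizer (A : Set G) with hC
  set Y := U ⊓ centralizer (A0 : Set G) with hY
  have hXY : X ≤ Y := le_inf h.X_le_U (cent_symm hAX)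
  have hMY : X ⊔ (U ⊓ C) ≤ Y := sup_le hXY (inf_le_inf_left _ (centralizer_le inf_le_left))
  have h1 : C.relIndex Y ≤ (o2 P2).relIndex A := by
    refine (o.off Y inf_le_left).trans ?_
    rw [← inf_relIndex_left A (o2 P2)]
    exact Nat.le_of_dvd (relIndex_pos _ _) (relIndex_dvd_of_le_left A (cent_symm inf_le_right))
  have h2 : Y ⊓ C ≤ X ⊔ (U ⊓ C) := le_trans (fun y hy => (⟨hy.1.1, hy.2⟩ : y ∈ U ⊓ C)) le_sup_right
  have h3 := relIndex_mul_of (H := C) h2 hMY
  have h4 : (o2 P2).relIndex A ≤ C.relIndex (X ⊔ (U ⊓ C)) :=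
    (h.no_X hN o).trans (relIndex_le_of_le_right le_sup_left (relIndex_pos _ _).ne')
  have h5 := relIndex_pos (X ⊔ (U ⊓ C)) Y
  have h6 := relIndex_pos (o2 P2) A
  have h7 : (X ⊔ (U ⊓ C)).relIndex Y = 1 := by
    by_contra hcon
    have h8 : 2 ≤ (X ⊔ (U ⊓ C)).relIndex Y := by omega
    have h9 := Nat.mul_le_mul h4 h8
    omega
  exact relIndex_eq_one.1 h7

/-- `[c, v] ∈ R^y` for `c ∈ C_Q(X)`, `v ∈ V^y` -/
theorem centRy {y c v : G} (hy : y ∈ P2) (hc : c ∈ o2 P2) (hcX : c ∈ centralizer (cl R P2 : Set G))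
    (hv : v ∈ cj y (zl (S : Subgroup G) P)) : c * v * c⁻¹ * v⁻¹ ∈ cj y R := by
  rw [mem_cj, conj_comm']
  have h1 : y⁻¹ * c * y ∈ o2 P2 := by
    have := conj_mem' (le_normalizer_o2 P2) (inv_mem hy) hc
    rwa [inv_inv] at this
  have h2 : y⁻¹ * c * y ∈ centralizer (cl R P2 : Set G) := by
    have := conj_mem' (normalizer_centralizer h.X_norm) (inv_mem hy) hcX
    rwa [inv_inv] at this
  exact h.mod.centR _ (h.Q_le h1) (centralizer_le h.R_le_X h2) _ (mem_cj.1 hv)

/-- `⁅V^y, C_Q(X)⁆ = R^y` if `C_Q(X) ≰ C(V)` -/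
theorem comm_C1 (hC : ¬ o2 P2 ⊓ centralizer (cl R P2 : Set G) ≤ centralizer (zl (S : Subgroup G) P : Set G)) {y : G}
    (hy : y ∈ P2) : ⁅cj y (zl (S : Subgroup G) P), o2 P2 ⊓ centralizer (cl R P2 : Set G)⁆ = cj y R := by
  set C1 := o2 P2 ⊓ centralizer (cl R P2 : Set G) with hC1
  have hn : P2 ≤ normalizer (C1 : Set G) := normalizer_inf (le_normalizer_o2 P2) (normalizer_centralizer h.X_norm)
  have h1 : ⁅zl (S : Subgroup G) P, C1⁆ = R := by
    have hWR : ⁅zl (S : Subgroup G) P, C1⁆ ≤ R := by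
      rw [commutator_le]
      intro v hv c hc
      have h2 := inv_mem (h.mod.centR c (h.Q_le hc.1) (centralizer_le h.R_le_X hc.2) v hv)
      have e : (c * v * c⁻¹ * v⁻¹)⁻¹ = ⁅v, c⁆ := by rw [commutatorElement_def]; group
      rwa [e] at h2
    have hS : (S : Subgroup G) ≤ normalizer ((⁅zl (S : Subgroup G) P, C1⁆ : Subgroup G) : Set G) :=
      normalizer_commutator h.mod.S_V (h.S_le.trans hn)
    have hz : ¬ ⁅zl (S : Subgroup G) P, C1⁆ ≤ zpowers z := by
      intro h0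
      apply hC
      intro c hc
      refine h.mod.small c (h.Q_le hc.1) fun v hv => ?_
      have h2 := inv_mem (h0 (commutator_mem_commutator hv hc))
      have e : ⁅v, c⁆⁻¹ = c * v * c⁻¹ * v⁻¹ := by rw [commutatorElement_def]; group
      rwa [e] at h2
    rcases h.mod.uni _ (hWR.trans h.R_le_V) hS with h2 | h2 | h2 | h2 | h2
    · exact absurd (h2.le.trans bot_le) hz
    · exact absurd h2.le hz
    · exact h2
    · exact le_antisymm hWR (h.mod.R_le.trans h2.ge)
    · exact le_antisymm hWR (h.R_le_V.trans h2.ge)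
  have h2 : cj y C1 = C1 := cj_of_le hn hy
  conv_lhs => rw [← h2]
  rw [← h1]
  exact (Subgroup.map_commutator _ _ _).symm

/-- `C_1` moves `V` if `A₀ ≤ C(X)`, `A₀ ≰ C(U)` -/
theorem C1_moves {A : Subgroup G} (hAX : A ⊓ o2 P2 ≤ centralizer (cl R P2 : Set G))
    (hAU : ¬ A ⊓ o2 P2 ≤ centralizer (cl (zl (S : Subgroup G) P) P2 : Set G)) :
    ¬ o2 P2 ⊓ centralizer (cl R P2 : Set G) ≤ centralizer (zl (S : Subgroup G) P : Set G) := by
  intro h0
  apply hAU
  have hn : P2 ≤ normalizer ((o2 P2 ⊓ centralizer (cl R P2 : Set G) : Subgroup G) : Set G) :=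
    normalizer_inf (le_normalizer_o2 P2) (normalizer_centralizer h.X_norm)
  have h1 : cl (zl (S : Subgroup G) P) P2 ≤ centralizer ((o2 P2 ⊓ centralizer (cl R P2 : Set G) : Subgroup G) : Set G) :=
    cl_le fun p hp => by
      have h4 := cj_cent (g := p) (cent_symm h0)
      rwa [cj_of_le hn hp] at h4
  exact (le_inf inf_le_right hAX).trans (cent_symm h1)

/-- **`A` normalises all `R^y`** if `A₀ ≤ C(X)`, `A₀ ≰ C(U)` -/
theorem norm_Ry (hN : NoOv P2) {A : Subgroup G} (o : O5 S P P2 A)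
    (hAX : A ⊓ o2 P2 ≤ centralizer (cl R P2 : Set G))
    (hAU : ¬ A ⊓ o2 P2 ≤ centralizer (cl (zl (S : Subgroup G) P) P2 : Set G)) {y a : G} (hy : y ∈ P2) (ha : a ∈ A) :
    cj (a * y) R ≤ cj y R := by
  have hC := h.C1_moves hAX hAU
  have haP : a ∈ P2 := h.S_le (o.le ha)
  set C1 := o2 P2 ⊓ centralizer (cl R P2 : Set G) with hC1
  by_cases hy0 : A ⊓ o2 P2 ≤ centralizer (cj y (zl (S : Subgroup G) P) : Set G)
  · -- `V^y ≤ X C_U(A)`
    have h1 : cj (a * y) (zl (S : Subgroup G) P) ≤ cj y (zl (S : Subgroup G) P) ⊔ cl R P2 := by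
      intro w hw
      rw [← cj_cj, mem_cj] at hw
      have hv : a⁻¹ * w * a ∈ cl (zl (S : Subgroup G) P) P2 ⊓ centralizer ((A ⊓ o2 P2 : Subgroup G) : Set G) :=
        ⟨h.cjV_le hy hw, cent_symm hy0 hw⟩
      have hcomm : ∀ p ∈ cl R P2, ∀ q ∈ cl (zl (S : Subgroup G) P) P2 ⊓ centralizer (A : Set G), p * q = q * p :=
        fun p hp q hq => h.U_mul (h.X_le_U hp) hq.1
      obtain ⟨x, hx, c, hc, hxc⟩ := mem_sup_comm hcomm (h.cU hN o hAX hv)
      have e1 : w = a * x * a⁻¹ * x⁻¹ * (a⁻¹ * w * a) := by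
        have h2 := mem_centralizer_iff.1 hc.2 a ha
        have e2 : w = a * (a⁻¹ * w * a) * a⁻¹ := by group
        have e3 : a * (x * c) * a⁻¹ = a * x * (c * a * c⁻¹)⁻¹ * c := by group
        have e4 : c * a * c⁻¹ = a := by rw [← h2, mul_inv_cancel_right]
        have e5 : w = a * (x * c) * a⁻¹ := by rw [← hxc]; exact e2
        rw [hxc, e5, e3, e4]; group
      rw [e1, sup_comm]
      exact mul_mem (mem_sup_left (mul_mem (conj_mem' h.X_norm haP hx) (inv_mem hx))) (mem_sup_right hw)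
    rw [← h.comm_C1 hC (mul_mem haP hy), commutator_le]
    intro w hw c hc
    obtain ⟨v, hv, x, hx, rfl⟩ := mem_sup_comm (fun p hp q hq => h.U_mul (h.cjV_le hy hp) (h.X_le_U hq)) (h1 hw)
    have h2 := inv_mem (h.centRy hy hc.1 hc.2 hv)
    have h3 := mem_centralizer_iff.1 hc.2 x hx
    have e : ⁅v * x, c⁆ = (c * v * c⁻¹ * v⁻¹)⁻¹ := by
      rw [commutatorElement_def]
      have e1 : v * x * c * (v * x)⁻¹ * c⁻¹ = v * (x * c * x⁻¹) * v⁻¹ * c⁻¹ := by group
      rw [e1, h3, mul_inv_cancel_right]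
      group
    rw [e]
    exact h2
  · -- `R^y = [V^y, A₀] ≤ C(A)`
    obtain ⟨a0, ha0, ha0V⟩ := SetLike.not_le_iff_exists.1 hy0
    have h1 : cj y R ≤ centralizer (A : Set G) := by
      have h2 : (centralizer ({a0} : Set G)).relIndex (cj y (zl (S : Subgroup G) P)) ≤
          (⊥ : Subgroup G).relIndex (cj y R ⊓ centralizer (A : Set G)) := by
        refine relIndex_le_of_map (fun v => a0 * v * a0⁻¹ * v⁻¹) (fun v hv => ⟨?_, ?_⟩) fun v hv w hw hvw => ?_
        · exact h.centRy hy ha0.2 (hAX ha0) hv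
        · exact o.quad v (h.cjV_le hy hv) a0 ha0.1
        · rw [mem_bot, inv_mul_eq_one] at hvw
          have hvU := h.cjV_le hy hv
          have hwU := h.cjV_le hy hw
          rw [mem_centralizer_singleton_iff]
          have ha0P : a0 ∈ P2 := h.S_le (h.Q_le ha0.2)
          have h3 := h.comm_mul ha0P (inv_mem hvU) hwU
          have hvi : v⁻¹ = v := inv_eq_of_mul_eq_one_right (h.U_sq' hvU)
          rw [hvi] at h3 ⊢
          rw [hvw] at h3
          have hsq : a0 * w * a0⁻¹ * w⁻¹ ∈ cl (zl (S : Subgroup G) P) P2 :=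
            mul_mem (conj_mem' h.U_norm ha0P hwU) (inv_mem hwU)
          rw [h.U_sq' hsq, mul_inv_eq_one, mul_inv_eq_iff_eq_mul] at h3
          exact h3.symm
      have h3 : (centralizer ({a0} : Set G)).relIndex (cj y (zl (S : Subgroup G) P)) ≥ 4 := by
        have h4 := relIndex_mul_card (cj y (zl (S : Subgroup G) P)) (centralizer ({a0} : Set G))
        rw [card_cj, h.mod.card] at h4
        have h5 : Nat.card ↥(cj y (zl (S : Subgroup G) P) ⊓ centralizer ({a0} : Set G)) ≤ 4 := by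
          have h6 : y⁻¹ * a0 * y ∈ o2 P2 := by
            have := conj_mem' (le_normalizer_o2 P2) (inv_mem hy) ha0.2
            rwa [inv_inv] at this
          have h7 : y⁻¹ * a0 * y ∉ centralizer (zl (S : Subgroup G) P : Set G) := fun h8 =>
            ha0V (mem_cent_cj.2 h8)
          have h8 := h.fix4 _ (h.Q_le h6) h7
          have h9 : cj y (zl (S : Subgroup G) P) ⊓ centralizer ({a0} : Set G) =
              cj y (zl (S : Subgroup G) P ⊓ centralizer ({y⁻¹ * a0 * y} : Set G)) := by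
            ext w
            rw [mem_cj, mem_inf, mem_inf, mem_cj, mem_centralizer_singleton_iff, mem_centralizer_singleton_iff]
            refine and_congr_right fun _ => ?_
            constructor
            · intro e
              have e1 : y⁻¹ * w * y * (y⁻¹ * a0 * y) = y⁻¹ * (w * a0) * y := by group
              have e2 : y⁻¹ * a0 * y * (y⁻¹ * w * y) = y⁻¹ * (a0 * w) * y := by group
              rw [e1, e2, e]
            · intro e
              have e1 : y⁻¹ * w * y * (y⁻¹ * a0 * y) = y⁻¹ * (w * a0) * y := by group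
              have e2 : y⁻¹ * a0 * y * (y⁻¹ * w * y) = y⁻¹ * (a0 * w) * y := by group
              rw [e1, e2] at e
              exact mul_left_cancel (mul_right_cancel e)
          rw [h9, card_cj]
          exact h8
        by_contra hcon
        push Not at hcon
        have h10 := Nat.mul_le_mul (Nat.le_of_lt_succ hcon) h5
        omega
      have h4 : 4 ≤ Nat.card ↥(cj y R ⊓ centralizer (A : Set G)) := by
        have h5 := h3.le.trans h2
        rwa [relIndex_bot_left] at h5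
      have h5 : cj y R ⊓ centralizer (A : Set G) = cj y R :=
        Subgroup.eq_of_le_of_card_ge inf_le_left (by rw [card_cj, h.mod.cardR]; exact h4)
      exact inf_eq_left.1 h5
    intro w hw
    rw [← cj_cj, mem_cj] at hw
    have h2 := mem_centralizer_iff.1 (h1 hw) a ha
    have e : w = a * (a⁻¹ * w * a) * a⁻¹ := by group
    rw [e, h2, mul_inv_cancel_right]
    exact hw

/-- **`A₀ ≤ C(X)`, `A₀ ≰ C(U)` is impossible.** -/
theorem false_Ry (hN : NoOv P2) {A : Subgroup G} (o : O5 S P P2 A)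
    (hAX : A ⊓ o2 P2 ≤ centralizer (cl R P2 : Set G))
    (hAU : ¬ A ⊓ o2 P2 ≤ centralizer (cl (zl (S : Subgroup G) P) P2 : Set G)) : False := by
  have h1 : cl A P2 ≤ normalizer (R : Set G) := by
    refine cl_le fun p hp => ?_
    rintro _ ⟨a, ha, rfl⟩
    have h2 := h.norm_Ry hN o hAX hAU (inv_mem hp) ha
    rw [mem_normalizer_iff_cj]
    have h3 : cj (p * a * p⁻¹) R ≤ R := by
      have h4 := cj_mono p h2
      rwa [cj_cj, cj_cj_inv, ← mul_assoc] at h4
    exact Subgroup.eq_of_le_of_card_ge h3 (card_cj _ _).ge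
  have h2 : cl A P2 ≤ P2 := cl_le fun p hp => by
    have h3 := cj_mono p (o.le.trans h.S_le)
    rwa [cj_self hp] at h3
  rcases h.min_or h2 (le_normalizer_cl _ _) with h3 | h3
  · exact h.E_R (h3.trans h1)
  · exact o.nQ ((le_inf o.le (le_cl _ _)).trans h3)

section B

variable (hz : ¬ ∀ b ∈ o2 P2, ∀ v ∈ V3, b * v * b⁻¹ * v⁻¹ ∈ zpowers z)
include hz

/-- `V ∩ X = R` -/
theorem inf_X : zl (S : Subgroup G) P ⊓ cl R P2 = R := by
  have hS : (S : Subgroup G) ≤ normalizer ((zl (S : Subgroup G) P ⊓ cl R P2 : Subgroup G) : Set G) :=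
    normalizer_inf h.mod.S_V (h.S_le.trans h.X_norm)
  have hR : R ≤ zl (S : Subgroup G) P ⊓ cl R P2 := le_inf h.R_le_V h.R_le_X
  have hn : ¬ V3 ≤ cl R P2 := fun h0 => hz fun b hb v hv => h.comm_XQ hb (h0 hv)
  rcases h.mod.uni _ inf_le_left hS with h2 | h2 | h2 | h2 | h2
  · have h3 := Subgroup.card_le_of_le hR
    rw [h2, card_bot, h.mod.cardR] at h3
    omega
  · have h3 := Subgroup.card_le_of_le hR
    rw [h2, h.loc1.card_z, h.mod.cardR] at h3
    omega
  · exact h2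
  · exact absurd (h2.ge.trans inf_le_right) hn
  · exact absurd ((h.mod.V3_le.trans h2.ge).trans inf_le_right) hn

/-- `V^y ∩ X = R^y` -/
theorem inf_X' {y v : G} (hy : y ∈ P2) (hv : v ∈ cj y (zl (S : Subgroup G) P)) (hvX : v ∈ cl R P2) :
    v ∈ cj y R := by
  rw [mem_cj] at hv ⊢
  rw [← h.inf_X hz]
  refine ⟨hv, ?_⟩
  have := conj_mem' h.X_norm (inv_mem hy) hvX
  rwa [inv_inv] at this

/-- **`A₀ ≤ C(X)`** -/
theorem normB1 (hN : NoOv P2) {A : Subgroup G} (o : O5 S P P2 A)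
    (h4 : A ⊓ o2 P2 ≤ centralizer (cl (zl (S : Subgroup G) P) P2 : Set G)) : P2 ≤ normalizer (V3 : Set G) := by
  set U := cl (zl (S : Subgroup G) P) P2 with hU
  set X := cl R P2 with hX
  set A0 := A ⊓ o2 P2 with hA0
  set C := centralizer (A : Set G) with hC
  set x := (o2 P2).relIndex A with hx
  have hAP : A ≤ P2 := o.le.trans h.S_le
  have hXU : X ≤ U := h.X_le_U
  have hxpos : 0 < x := relIndex_pos _ _
  have h1 : x ≤ C.relIndex X := h.no_X hN o
  have h2 : x * Nat.card A0 = Nat.card A := h.card_A A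
  have hAU : A ⊓ centralizer (U : Set G) ≤ A0 := fun a ha => ⟨ha.1, h.inf_cent_U ⟨o.le ha.1, ha.2⟩⟩
  have h5 : C.relIndex U ≤ x := by
    refine o.index_le.trans ?_
    have h6 := h.relIndex_U o.le
    rw [relIndex_eq_one.2 h4, one_mul] at h6
    exact h6.symm.le
  set M := X ⊔ (U ⊓ C) with hM
  have hMU : M ≤ U := sup_le hXU inf_le_left
  have h6 : C.relIndex M * M.relIndex U = C.relIndex U := relIndex_mul_of le_sup_right hMU
  have h7 : C.relIndex X ≤ C.relIndex M := relIndex_le_of_le_right le_sup_left (relIndex_pos _ _).ne'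
  have h8 : U ≤ M := by
    have h9 : x * M.relIndex U ≤ x * 1 := by
      rw [mul_one]
      exact (Nat.mul_le_mul_right _ (h1.trans h7)).trans (h6.le.trans h5)
    have h10 := Nat.le_of_mul_le_mul_left h9 hxpos
    have h11 := relIndex_pos M U
    exact relIndex_eq_one.1 (by omega)
  -- `[U, E] ≤ X`
  have hE : oddGen P2 ≤ kmod P2 U X h.U_norm h.X_norm := by
    rcases h.min_or (kmod_le (h1 := h.U_norm) (h2 := h.X_norm)) h.kmod_UX_norm with h9 | h9
    · exact h9
    · exfalso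
      apply o.nQ
      refine le_trans (fun a ha => ?_) h9
      refine ⟨o.le ha, hAP ha, fun u hu => ?_⟩
      have hcom : ∀ p ∈ X, ∀ q ∈ U ⊓ C, p * q = q * p := fun p hp q hq => h.U_mul (hXU hp) hq.1
      obtain ⟨v, hv, c, hc, rfl⟩ := mem_sup_comm hcom (h8 hu)
      rw [h.comm_mul (hAP ha) (hXU hv) hc.1]
      have h10 := mem_centralizer_iff.1 hc.2 a ha
      rw [h10, mul_inv_cancel_right, mul_inv_cancel, mul_one]
      exact mul_mem (conj_mem' h.X_norm (hAP ha) hv) (inv_mem hv)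
  -- `U = V X`
  have hVX : P2 ≤ normalizer ((zl (S : Subgroup G) P ⊔ X : Subgroup G) : Set G) := by
    refine h.sup_S.ge.trans (sup_le ?_ (normalizer_sup h.mod.S_V (h.S_le.trans h.X_norm)))
    refine le_normalizer_of_forall fun e he w hw => ?_
    have hwU : w ∈ U := (sup_le h.V_le_U h.X_le_U) hw
    have h1 := (hE he).2 w hwU
    have h2 := mul_mem (mem_sup_right (S := zl (S : Subgroup G) P) h1) hw
    rwa [inv_mul_cancel_right] at h2
  have hUV : U ≤ zl (S : Subgroup G) P ⊔ X := cl_le fun p hp => by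
    have h1 := cj_mono p (le_sup_left (a := zl (S : Subgroup G) P) (b := X))
    rwa [cj_of_le hVX hp] at h1
  have hW : ⁅o2 P2, U⁆ ≤ zl (S : Subgroup G) P := by
    rw [commutator_le]
    intro q hq u hu
    obtain ⟨v, hv, w, hw, rfl⟩ := mem_sup_comm (fun a ha b hb => h.U_mul (h.V_le_U ha) (hXU hb)) (hUV hu)
    rw [commutatorElement_def, h.comm_mul (h.S_le (h.Q_le hq)) (h.V_le_U hv) (hXU hw)]
    exact mul_mem (h.mod.V3_le (h.comm_VS (h.Q_le hq) hv))
      (h.R_le_V (h.zpowers_le_R (h.comm_XQ hq hw)))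
  set W := ⁅o2 P2, U⁆ with hWdef
  have hWn : P2 ≤ normalizer (W : Set G) := normalizer_commutator (le_normalizer_o2 P2) h.U_norm
  have hWm : ∀ q ∈ o2 P2, ∀ v ∈ zl (S : Subgroup G) P, q * v * q⁻¹ * v⁻¹ ∈ W := fun q hq v hv => by
    have := commutator_mem_commutator hq (h.V_le_U hv)
    rwa [commutatorElement_def] at this
  have hWz : ¬ W ≤ zpowers z := by
    intro h0
    apply h.not_Q_V
    intro q hq
    exact h.mod.small q (h.Q_le hq) fun v hv => h0 (hWm q hq v hv)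
  rcases h.mod.uni W hW (h.S_le.trans hWn) with h1 | h1 | h1 | h1 | h1
  · exact absurd (h1.le.trans bot_le) hWz
  · exact absurd h1.le hWz
  · rw [h1] at hWn
    exact absurd hWn h.mv
  · rwa [h1] at hWn
  · exfalso
    rw [h1] at hWn
    have h9 : X ≤ zl (S : Subgroup G) P := cl_le fun p hp => by
      have h10 := cj_mono p h.R_le_V
      rwa [cj_of_le hWn hp] at h10
    have h10 : X = R := by
      rw [← h.inf_X hz, ← hX]
      exact (inf_eq_right.2 h9).symm
    apply h.mv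
    have h11 := h.X_norm
    rw [← hX, h10] at h11
    exact h11

section quad

variable {A : Subgroup G} (o : O5 S P P2 A)
include o

/-- `[b, v] ∈ V₃^y - R^y` -/
theorem fB {y b v : G} (hy : y ∈ P2) (hb : b ∈ A ⊓ o2 P2) (hbR : b ∉ centralizer ((cj y R : Subgroup G) : Set G))
    (hv : v ∈ cj y (zl (S : Subgroup G) P)) (hv3 : v ∉ cj y V3) :
    b * v * b⁻¹ * v⁻¹ ∈ cj y V3 ∧ b * v * b⁻¹ * v⁻¹ ∉ cj y R ∧ b * v * b⁻¹ * v⁻¹ ∈ centralizer (A : Set G) :=
  ⟨(h.loc hy).comm3 b hb.2 v hv, fun h0 => hv3 ((h.loc hy).nCentR b hb.2 hbR v hv h0), o.quad v (h.cjV_le hy hv) b hb.1⟩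

/-- `C_{A₀}(R^y) ≤ C(V^y)` if `A₀` moves `R^y` -/
theorem centB {y b c : G} (hy : y ∈ P2) (hb : b ∈ A ⊓ o2 P2) (hbR : b ∉ centralizer ((cj y R : Subgroup G) : Set G))
    (hc : c ∈ A ⊓ o2 P2) (hcR : c ∈ centralizer ((cj y R : Subgroup G) : Set G)) :
    c ∈ centralizer ((cj y (zl (S : Subgroup G) P) : Subgroup G) : Set G) := by
  obtain ⟨v, hv, hv3⟩ := (h.loc hy).exists_v
  obtain ⟨h1, h2, h3⟩ := h.fB hz o hy hb hbR hv hv3
  exact (h.loc hy).cent_of_f hc.2 hcR h1 h2 (mem_centralizer_iff.1 h3 c hc.1)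

/-- **`|B : C_B(X)| ≤ |U₀ : {u ∈ U₀ | [u, B] ≤ X}|`**, `U₀ = C_U(C_{A₀}(X))` -/
theorem lbB {U0 : Subgroup G} (hU0 : U0 = cl (zl (S : Subgroup G) P) P2 ⊓
      centralizer ((A ⊓ o2 P2 ⊓ centralizer (cl R P2 : Set G) : Subgroup G) : Set G))
    (hUX : U0 ≤ normalizer (cl R P2 : Set G)) : ∀ (n : ℕ) (B : Subgroup G), Nat.card B ≤ n → B ≤ A ⊓ o2 P2 →
    (centralizer (cl R P2 : Set G)).relIndex B ≤ (cmod U0 B (cl R P2) hUX).relIndex U0 := by
  intro n
  induction n with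
  | zero =>
    intro B hB
    have := Nat.card_pos (α := B)
    omega
  | succ n ih =>
    intro B hBn hB
    set X := cl R P2 with hX
    by_cases hBU : B ≤ centralizer (X : Set G)
    · rw [relIndex_eq_one.2 hBU]
      exact relIndex_pos _ _
    obtain ⟨y, hy, hBy⟩ : ∃ y ∈ P2, ¬ B ≤ centralizer ((cj y R : Subgroup G) : Set G) := by
      by_contra hcon
      push Not at hcon
      exact hBU (cent_symm (cl_le fun y hy => cent_symm (hcon y hy)))
    obtain ⟨b, hb, hbR⟩ := SetLike.not_le_iff_exists.1 hBy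
    have l := h.loc hy
    obtain ⟨v, hv, hv3⟩ := l.exists_v
    have hvU := h.cjV_le hy hv
    obtain ⟨f1, f2, -⟩ := h.fB hz o hy (hB hb) hbR hv hv3
    set B1 := B ⊓ centralizer ((cj y R : Subgroup G) : Set G) with hB1
    have hB1B : B1 ≤ B := inf_le_left
    have h1 : Nat.card B1 < Nat.card B := by
      refine lt_of_le_of_ne (Subgroup.card_le_of_le hB1B) fun h0 => ?_
      have h2 := Subgroup.eq_of_le_of_card_ge hB1B h0.ge
      exact hBy (inf_eq_left.1 h2)
    have h2 := ih B1 (by omega) (hB1B.trans hB)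
    have h3 : B1.relIndex B ≤ 2 := by
      rw [hB1, inf_relIndex_left]
      exact relIndex_le_two fun s hs t ht hsV htV => l.R_mul (hB hs).2 (hB ht).2 hsV htV
    have h4 := relIndex_mul_of (H := centralizer (X : Set G)) (M := B1) (L := B)
      (le_inf inf_le_left (inf_le_right.trans (centralizer_le (cj_le_cl hy)))) hB1B
    have hanti : cmod U0 B X hUX ≤ cmod U0 B1 X hUX := fun u hu => ⟨hu.1, fun c hc => hu.2 c (hB1B hc)⟩
    have h5 := relIndex_mul_relIndex (cmod U0 B X hUX) (cmod U0 B1 X hUX) U0 hanti (fun u hu => hu.1)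
    have h6 : 2 ≤ (cmod U0 B X hUX).relIndex (cmod U0 B1 X hUX) := by
      refine two_le_relIndex (v := v) ⟨?_, fun c hc => ?_⟩ fun h0 => f2 ?_
      · rw [hU0]
        refine ⟨hvU, mem_centralizer_iff.2 fun c hc => ?_⟩
        have h7 := h.centB hz o hy (hB hb) hbR hc.1 (centralizer_le (cj_le_cl hy) hc.2)
        exact (mem_centralizer_iff.1 h7 v hv).symm
      · have h7 := mem_centralizer_iff.1 (h.centB hz o hy (hB hb) hbR (hB (hB1B hc)) hc.2) v hv
        rw [← h7, mul_inv_cancel_right, mul_inv_cancel]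
        exact one_mem _
      · exact h.inf_X' hz hy (l.V3_le f1) (h0.2 b hb)
    rw [← h4, ← h5, mul_comm]
    exact Nat.mul_le_mul (h3.trans h6) h2

/-- **`A₀ ≰ C(X)` is impossible** -/
theorem falseB (hN : NoOv P2) (hAX : ¬ A ⊓ o2 P2 ≤ centralizer (cl R P2 : Set G)) : False := by
  set U := cl (zl (S : Subgroup G) P) P2 with hU
  set X := cl R P2 with hX
  set A0 := A ⊓ o2 P2 with hA0
  set C := centralizer (A : Set G) with hC
  set x := (o2 P2).relIndex A with hx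
  set C0 := A0 ⊓ centralizer (X : Set G) with hC0
  set r := (centralizer (X : Set G)).relIndex A0 with hr
  have hAP : A ≤ P2 := o.le.trans h.S_le
  have hXU : X ≤ U := h.X_le_U
  have hxpos : 0 < x := relIndex_pos _ _
  have hrpos : 0 < r := relIndex_pos _ _
  obtain ⟨U0, hU0⟩ : ∃ U0 : Subgroup G, U0 = U ⊓ centralizer (C0 : Set G) := ⟨_, rfl⟩
  have hU0U : U0 ≤ U := hU0.le.trans inf_le_left
  have hUX : U0 ≤ normalizer (X : Set G) := (hU0U.trans h.U_le_P2).trans h.X_norm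
  have h1 : r ≤ (cmod U0 A0 X hUX).relIndex U0 := h.lbB hz o hU0 hUX _ A0 le_rfl le_rfl
  have h2 : x * Nat.card A0 = Nat.card A := h.card_A A
  have h3 : r * Nat.card C0 = Nat.card A0 := relIndex_mul_card A0 (centralizer (X : Set G))
  have hC0A : C0 ≤ A := inf_le_left.trans inf_le_left
  have hAU : A ⊓ centralizer (U : Set G) ≤ C0 := fun a ha =>
    ⟨⟨ha.1, h.inf_cent_U ⟨o.le ha.1, ha.2⟩⟩, centralizer_le hXU ha.2⟩
  have hbest := o.max C0 hC0A
  rw [← hU, ← hU0, ← hC] at hbest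
  -- `|U₀|`
  set N := cmod U0 A0 X hUX with hNdef
  have hNU : N ≤ U0 := fun u hu => hu.1
  have h4 : N.relIndex U0 * Nat.card N = Nat.card U0 := by
    have := relIndex_mul_card U0 N
    rwa [inf_eq_right.2 hNU] at this
  have h5 : X ⊔ (U ⊓ C) ≤ N := by
    refine sup_le ?_ ?_
    · intro w hw
      refine ⟨?_, fun a ha => mul_mem (conj_mem' h.X_norm (hAP ha.1) hw) (inv_mem hw)⟩
      rw [hU0]
      exact ⟨hXU hw, cent_symm (inf_le_right : C0 ≤ centralizer (X : Set G)) hw⟩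
    · intro w hw
      refine ⟨?_, fun a ha => ?_⟩
      · rw [hU0]
        exact ⟨hw.1, centralizer_le hC0A hw.2⟩
      · have := mem_centralizer_iff.1 hw.2 a ha.1
        rw [this, mul_inv_cancel_right, mul_inv_cancel]
        exact one_mem _
  have h6 := card_sup_comm (A := X) (B := U ⊓ C) (fun a ha b hb => h.U_mul (hXU ha) hb.1)
  have h7 : X ⊓ (U ⊓ C) = X ⊓ C := by rw [← inf_assoc, inf_eq_left.2 hXU]
  have h8 : C.relIndex X * Nat.card ↥(X ⊓ C) = Nat.card X := relIndex_mul_card _ _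
  have h9 := Subgroup.card_le_of_le h5
  rw [h7] at h6
  -- `|X : C_X(A)| ≤ x`
  have h10 : C.relIndex X ≤ x := by
    have hp1 : 0 < Nat.card ↥(X ⊓ C) := Nat.card_pos
    have hp2 : 0 < Nat.card ↥(U ⊓ C) := Nat.card_pos
    have hp3 : 0 < Nat.card C0 := Nat.card_pos
    have h11 : C.relIndex X * Nat.card ↥(U ⊓ C) ≤ Nat.card N := by
      refine le_trans ?_ h9
      have h12 : Nat.card ↥(X ⊓ C) * (C.relIndex X * Nat.card ↥(U ⊓ C)) =
          Nat.card ↥(X ⊓ C) * Nat.card ↥(X ⊔ U ⊓ C) := by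
        rw [mul_comm (Nat.card ↥(X ⊓ C)) (Nat.card ↥(X ⊔ U ⊓ C)), h6, ← h8]
        ring
      exact (Nat.eq_of_mul_eq_mul_left hp1 h12).le
    have h12 : (Nat.card C0 * r * Nat.card ↥(U ⊓ C)) * C.relIndex X ≤ (Nat.card C0 * r * Nat.card ↥(U ⊓ C)) * x := by
      calc (Nat.card C0 * r * Nat.card ↥(U ⊓ C)) * C.relIndex X
          = Nat.card C0 * (r * (C.relIndex X * Nat.card ↥(U ⊓ C))) := by ring
        _ ≤ Nat.card C0 * (N.relIndex U0 * Nat.card N) :=
          Nat.mul_le_mul_left _ (Nat.mul_le_mul h1 h11)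
        _ = Nat.card C0 * Nat.card U0 := by rw [h4]
        _ ≤ Nat.card A * Nat.card ↥(U ⊓ C) := hbest
        _ = (x * (r * Nat.card C0)) * Nat.card ↥(U ⊓ C) := by rw [h3, h2]
        _ = _ := by ring
    exact Nat.le_of_mul_le_mul_left h12 (by positivity)
  -- `[w, A] ≤ ⟨z⟩` ⟹ `[w, A] = 1`
  obtain ⟨hA2, hAc⟩ := h.A_o2 o
  have hXz : X ≤ normalizer (zpowers z : Set G) := (hXU.trans h.U_le_P2).trans h.P2_zpowers
  have hzX : zpowers z ≤ X := h.zpowers_le_R.trans h.R_le_X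
  have h11 : x ≤ (cmod X A (zpowers z) hXz).relIndex X := by
    refine hN.gen hzX (hXU.trans h.U_le_P2) h.X_sq h.X_comm h.P2_zpowers h.X_norm ?_ hAP hA2 hAc (fun u hu => hu.1) ?_
    · intro h0
      apply h.E_R
      refine le_normalizer_of_forall fun e he r hr => ?_
      have h12 := inv_mem (h0 (commutator_mem_commutator (h.R_le_X hr) he))
      rw [commutatorElement_inv, commutatorElement_def] at h12
      have h13 := mul_mem (h.zpowers_le_R h12) hr
      rwa [inv_mul_cancel_right] at h13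
    · rw [commutator_le]
      intro d hd a ha
      have h6 := inv_mem (hd.2 a ha)
      have e : (a * d * a⁻¹ * d⁻¹)⁻¹ = ⁅d, a⁆ := by rw [commutatorElement_def]; group
      rwa [e] at h6
  have h12 : X ⊓ C = cmod X A (zpowers z) hXz := by
    refine eq_of_relIndex (fun w hw => ⟨hw.1, fun a ha => ?_⟩) (fun u hu => hu.1) ?_
    · have := mem_centralizer_iff.1 hw.2 a ha
      rw [this, mul_inv_cancel_right, mul_inv_cancel]
      exact one_mem _
    · rw [inf_relIndex_left]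
      exact h10.trans h11
  -- the contradiction
  obtain ⟨y, hy, hBy⟩ : ∃ y ∈ P2, ¬ A0 ≤ centralizer ((cj y R : Subgroup G) : Set G) := by
    by_contra hcon
    push Not at hcon
    exact hAX (cent_symm (cl_le fun y hy => cent_symm (hcon y hy)))
  obtain ⟨b, hb, hbR⟩ := SetLike.not_le_iff_exists.1 hBy
  have l := h.loc hy
  obtain ⟨v, hv, hv3⟩ := l.exists_v
  obtain ⟨f1, f2, f3⟩ := h.fB hz o hy hb hbR hv hv3
  have hz' : ¬ ∀ b ∈ o2 P2, ∀ v ∈ cj y V3, b * v * b⁻¹ * v⁻¹ ∈ zpowers z := fun h0 => hz ((h.hz_iff hy).1 h0)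
  apply hbR
  rw [mem_centralizer_iff]
  intro w hw
  have key : ∀ a ∈ A, ∀ w ∈ cj y R, a * w * a⁻¹ ∈ cj y R := by
    intro a ha
    have haP := hAP ha
    have hay : a⁻¹ * y ∈ P2 := mul_mem (inv_mem haP) hy
    have hW : o2 P2 ≤ normalizer ((cj (a⁻¹ * y) (zl (S : Subgroup G) P) : Subgroup G) : Set G) := by
      have h13 := cj_norm (g := a⁻¹ * y) (h.Q_le.trans h.mod.S_V)
      rwa [cj_of_le (le_normalizer_o2 P2) hay] at h13
    have hfW : b * v * b⁻¹ * v⁻¹ ∈ cj (a⁻¹ * y) (zl (S : Subgroup G) P) := by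
      rw [← cj_cj, mem_cj, inv_inv, mem_centralizer_iff.1 f3 a ha, mul_inv_cancel_right]
      exact l.V3_le f1
    have h13 := l.R_le_of hz' hW (h.loc hay).z_mem_V hfW f1 f2
    intro w hw
    have h14 := h.inf_X' hz hay (h13 hw) (cj_le_cl hy hw)
    rw [← cj_cj, mem_cj, inv_inv] at h14
    exact h14
  have h13 : w ∈ X ⊓ C := by
    rw [h12]
    refine ⟨cj_le_cl hy hw, fun a ha => ?_⟩
    exact l.R_norm (h.z_comm (hAP ha)) hw (key a ha w hw)
  exact (mem_centralizer_iff.1 h13.2 b hb.1).symm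

end quad

end B

/-- **one offender ⟹ `P₂ ≤ N_G(V₃)`** -/
theorem norm_V3 (hAS : FFBr.AStmt.{u}) {A : Subgroup G} (o : O5 S P P2 A) : P2 ≤ normalizer (V3 : Set G) := by
  have hN : NoOv P2 := noOv hAS h.syl h.par.toIsMinPar
  by_cases hz : ∀ b ∈ o2 P2, ∀ v ∈ V3, b * v * b⁻¹ * v⁻¹ ∈ zpowers z
  · exact h.normA hz o hN
  by_cases hAX : A ⊓ o2 P2 ≤ centralizer (cl R P2 : Set G)
  · by_cases hAU : A ⊓ o2 P2 ≤ centralizer (cl (zl (S : Subgroup G) P) P2 : Set G)
    · exact h.normB1 hz hN o hAU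
    · exact (h.false_Ry hN o hAX hAU).elim
  · exact (h.falseB hz o hN hAX).elim

/-- **one offender ⟹ `|S : O₂(P₂)| = 2`** -/
theorem two_of (hAS : FFBr.AStmt.{u}) {A : Subgroup G} (o : O5 S P P2 A) :
    (o2 P2).relIndex (S : Subgroup G) = 2 := h.index_of_V3 (h.norm_V3 hAS o)

end B5

end Cfsg.Agent.Omega.NO3S.Fld.WFour
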