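import Cfsg.Agent.Omega.NO3S.Fld.WFour.CaseB
import Cfsg.Agent.Omega.NO3S.Fld.LFourThree

/-!
# Fld, `q = 4`, one offender : the end

* `B5.norm_V` : **one offender `A ≰ O₂(P₂)` on all subgroups of `⟨V^P₂⟩` ⟹ `P₂ ≤ N_G(V)`** (and `A` moves `V`);
* `B5.exists_four` : then some `P₁ ∈ P*(S)`, `P₁ ≤ P`, is nonlocal with `C_G(Z)`, `|V_{P₁}| = 4`.
-/

set_option autoImplicit false
set_option linter.unusedSectionVars false

namespace Cfsg.Agent.Omega.NO3S.Fld.WFour

open Subgroup Cfsg Cfsg.Agent.ZN Cfsg.Agent.ZN.ChoiceBase Cfsg.Agent.Omega.MinPar Cfsg.Agent.Omega.FrameNOFF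
open Cfsg.Agent.ZN.ChoiceSit (Syl syl_iff syl_not_dvd o2_le_syl isPGroup_o2)
open Cfsg.Agent.MinSimple.MinParabolic (IsMinPar)
open Cfsg.Agent.MinSimple.VModule (oddGen oddGen_le mem_oddGen le_normalizer_oddGen le_normalizer_o2 o2_le
  zc_le zc_le_zl le_normalizer_zl zc_sq zc_comm le_centralizer_zc)
open Cfsg.Agent.Omega.NO3b.EZero (cl cj_le_cl le_cl cl_le cj_cl le_normalizer_cl cent_symm cj_cent cj_norm
  sq_of_comm oddGen_sup_syl mem_cj_self relIndex_cj le_normalizer_inf_cent)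
open Cfsg.Agent.Omega.NO3b.K0 (conj_mem' cj_of_le cj_self NoOv noOv)
open Cfsg.Agent.Omega.NO3S.NotFF (le_normalizer_of_forall normalizer_inf normalizer_sup normalizer_centralizer
  normalizer_commutator)
open Cfsg.Agent.Omega.SQ1.Bau (card_sup_comm mem_sup_comm)
open Cfsg.Agent.Omega.NO1.BestOff (Best)
open Cfsg.Agent.Omega.FFThm (ElemM)
open scoped commutatorElement

universe u

open Cfsg.Agent.Omega.NatPair (ap ap_zero' ap_one' ext2)
open Cfsg.Agent.Lib.SL2Mat
open Cfsg.Agent.Omega.NO3S.Fld.DEight (of_sig_eq exists_ne)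
open Cfsg.Agent.MinSimple.VModule (normalizer_le_normalizer_zc)

namespace B5

variable {G : Type u} [Group G] [Finite G] {S : Sylow 2 G} {P P2 R V3 : Subgroup G} {z : G}
  (h : B5 S P P2 R V3 z)
include h

/-- the normal closure of `S` in `P₂` moves `R` -/
theorem moves : ∃ g ∈ P2, ∃ s ∈ (S : Subgroup G), g * s * g⁻¹ ∉ normalizer (R : Set G) := by
  by_contra hcon
  push Not at hcon
  have h1 : cl (S : Subgroup G) P2 ≤ normalizer (R : Set G) := by
    refine cl_le fun p hp => ?_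
    rintro _ ⟨s, hs, rfl⟩
    exact hcon p hp s hs
  have h2 : cl (S : Subgroup G) P2 ≤ P2 := cl_le fun p hp => by
    have h3 := cj_mono p h.S_le
    rwa [cj_self hp] at h3
  rcases h.min_or h2 (le_normalizer_cl _ _) with h3 | h3
  · exact h.E_R (h3.trans h1)
  · exact h.not_S_le ((le_inf le_rfl (le_cl _ _)).trans h3)

theorem sit (hidx : (o2 P2).relIndex (S : Subgroup G) = 2) :
    Dih.Sit (S : Subgroup G) P2 (o2 P2) (cl (zl (S : Subgroup G) P) P2) (zl (S : Subgroup G) P) R V3 z where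
  mod := h.mod
  syl := h.syl
  Q_le := h.Q_le
  norm := le_normalizer_o2 P2
  idx := hidx
  cz := fun _ hg => h.z_comm hg
  U_le := h.U_le_S
  U_comm := h.U_comm
  conj_le := fun _ hg => cj_le_cl hg
  moves := h.moves

/-- **dihedral lemma** -/
theorem dih (hidx : (o2 P2).relIndex (S : Subgroup G) = 2) {A : Subgroup G} (hA : A ≤ (S : Subgroup G))
    (he : ElemM (cl (zl (S : Subgroup G) P) P2) A)
    (hoff : ∀ Y ≤ cl (zl (S : Subgroup G) P) P2,
      (centralizer (A : Set G)).relIndex Y ≤ (centralizer (Y : Set G)).relIndex A)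
    (hAV : A ≤ centralizer (zl (S : Subgroup G) P : Set G)) : A ≤ o2 P2 := by
  by_contra hcon
  exact LDih.false_of (h.sit hidx) h.U_norm h.inf_cent_U hA he.sq he.comm hoff hAV hcon

/-- `|V : C_V(A)| = 4 = |A : C_A(V)|` if `A` moves `V` -/
theorem root {A : Subgroup G} (o : O5 S P P2 A) (hAV : ¬ A ≤ centralizer (zl (S : Subgroup G) P : Set G)) :
    (centralizer (A : Set G)).relIndex (zl (S : Subgroup G) P) = 4 ∧
      (centralizer (zl (S : Subgroup G) P : Set G)).relIndex A = 4 := by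
  obtain ⟨b, hb, hbV⟩ := SetLike.not_le_iff_exists.1 hAV
  have h1 := h.fix4 b (o.le hb) hbV
  have h3 : zl (S : Subgroup G) P ⊓ centralizer (A : Set G) ≤ zl (S : Subgroup G) P ⊓ centralizer ({b} : Set G) :=
    inf_le_inf_left _ (centralizer_le (Set.singleton_subset_iff.2 hb))
  have h4 : Nat.card ↥(zl (S : Subgroup G) P ⊓ centralizer (A : Set G)) ≤ 4 := (Subgroup.card_le_of_le h3).trans h1
  have h6 := relIndex_mul_card (zl (S : Subgroup G) P) (centralizer (A : Set G))
  rw [h.mod.card] at h6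
  have h7 : 4 ≤ (centralizer (A : Set G)).relIndex (zl (S : Subgroup G) P) := by
    by_contra hcon
    push Not at hcon
    have h8 := Nat.mul_le_mul (Nat.le_of_lt_succ hcon) h4
    omega
  have h8 := o.off _ h.V_le_U
  have h9 := h.mod.le4 A o.le ⟨fun a ha => centralizer_le h.V_le_U (o.elem.sq a ha),
    fun a ha b hb => centralizer_le h.V_le_U (o.elem.comm a ha b hb)⟩
  omega

/-- `C_Q(X) = C_Q(U)` if `V₃ ≤ X` -/
theorem cent_U_of_X (hX : V3 ≤ cl R P2) {q : G} (hq : q ∈ o2 P2) (hqX : q ∈ centralizer (cl R P2 : Set G)) :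
    q ∈ centralizer (cl (zl (S : Subgroup G) P) P2 : Set G) := by
  have h1 : o2 P2 ⊓ centralizer (cl R P2 : Set G) ≤ centralizer (zl (S : Subgroup G) P : Set G) :=
    fun x hx => h.mod.faith x (h.Q_le hx.1) (centralizer_le hX hx.2)
  have h2 : P2 ≤ normalizer ((o2 P2 ⊓ centralizer (cl R P2 : Set G) : Subgroup G) : Set G) :=
    normalizer_inf (le_normalizer_o2 P2) (normalizer_centralizer h.X_norm)
  have h3 : cl (zl (S : Subgroup G) P) P2 ≤ centralizer ((o2 P2 ⊓ centralizer (cl R P2 : Set G) : Subgroup G) : Set G) :=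
    cl_le fun p hp => by
      have h4 := cj_cent (g := p) (cent_symm h1)
      rwa [cj_of_le h2 hp] at h4
  exact cent_symm h3 ⟨hq, hqX⟩

/-- `X = V₃` if `P₂ ≤ N_G(V₃)` -/
theorem X_eq (hn : P2 ≤ normalizer (V3 : Set G)) : cl R P2 = V3 := by
  have h1 : cl R P2 ≤ V3 := cl_le fun p hp => by
    have h2 := cj_mono p h.mod.R_le
    rwa [cj_of_le hn hp] at h2
  rcases h.mod.uni _ (h1.trans h.mod.V3_le) (h.S_le.trans h.X_norm) with h2 | h2 | h2 | h2 | h2
  · exact absurd (h2 ▸ h.R_le_X h.z_mem_R) (by rw [mem_bot]; exact h.mod.z_ne)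
  · exfalso
    have h3 := Subgroup.card_le_of_le h.R_le_X
    rw [h2, h.mod.cardR, Nat.card_zpowers, orderOf_eq_prime (by rw [pow_two]; exact h.z_sq) h.mod.z_ne] at h3
    omega
  · exfalso
    apply h.mv
    have h3 := h.X_norm
    rwa [h2] at h3
  · exact h2
  · exact le_antisymm h1 (h.mod.V3_le.trans h2.ge)

/-- `C_A(V)` offends on all subgroups of `U` -/
theorem off_inf {A : Subgroup G} (o : O5 S P P2 A) (hAV : ¬ A ≤ centralizer (zl (S : Subgroup G) P : Set G))
    {Y : Subgroup G} (hY : Y ≤ cl (zl (S : Subgroup G) P) P2) :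
    (centralizer ((A ⊓ centralizer (zl (S : Subgroup G) P : Set G) : Subgroup G) : Set G)).relIndex Y ≤
      (centralizer (Y : Set G)).relIndex (A ⊓ centralizer (zl (S : Subgroup G) P : Set G)) := by
  obtain ⟨r1, r2⟩ := h.root o hAV
  set U := cl (zl (S : Subgroup G) P) P2 with hU
  set V := zl (S : Subgroup G) P with hV
  set A2 := A ⊓ centralizer (V : Set G) with hA2
  set C := centralizer (A : Set G) with hC
  set C2 := centralizer (A2 : Set G) with hC2
  set Y' := Y ⊔ (V ⊔ (U ⊓ C)) with hY'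
  have hVY : V ≤ Y' := le_sup_left.trans le_sup_right
  have hYU : Y' ≤ U := sup_le hY (sup_le h.V_le_U inf_le_left)
  have h1 := o.off Y' hYU
  have h2 : (centralizer (Y' : Set G)).relIndex A2 * A2.relIndex A = (centralizer (Y' : Set G)).relIndex A :=
    relIndex_mul_of (fun a ha => ⟨ha.1, centralizer_le hVY ha.2⟩) inf_le_left
  have h3 : A2.relIndex A = 4 := by rw [hA2, inf_relIndex_left]; exact r2
  have h4 : C.relIndex (Y' ⊓ C2) * (Y' ⊓ C2).relIndex Y' = C.relIndex Y' :=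
    relIndex_mul_of (fun y hy => (⟨hy.1, centralizer_le inf_le_left hy.2⟩ : y ∈ Y' ⊓ C2)) inf_le_left
  rw [inf_relIndex_left] at h4
  have h5 : 4 ≤ C.relIndex (Y' ⊓ C2) := by
    rw [← r1]
    exact relIndex_le_of_le_right (le_inf hVY (cent_symm inf_le_right)) (relIndex_pos _ _).ne'
  have h6 : C2.relIndex Y' ≤ (centralizer (Y' : Set G)).relIndex A2 := by
    have h7 : 4 * C2.relIndex Y' ≤ 4 * (centralizer (Y' : Set G)).relIndex A2 := by
      calc 4 * C2.relIndex Y' ≤ C.relIndex (Y' ⊓ C2) * C2.relIndex Y' := Nat.mul_le_mul_right _ h5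
        _ = C.relIndex Y' := h4
        _ ≤ (centralizer (Y' : Set G)).relIndex A := h1
        _ = (centralizer (Y' : Set G)).relIndex A2 * 4 := by rw [← h2, h3]
        _ = _ := mul_comm _ _
    exact Nat.le_of_mul_le_mul_left h7 (by norm_num)
  have h7 : C2.relIndex Y ≤ C2.relIndex Y' := relIndex_le_of_le_right le_sup_left (relIndex_pos _ _).ne'
  have h8 : (centralizer (Y' : Set G)).relIndex A2 = (centralizer (Y : Set G)).relIndex A2 := by
    rw [← inf_relIndex_left A2, ← inf_relIndex_left A2 (centralizer (Y : Set G))]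
    congr 1
    apply le_antisymm
    · exact inf_le_inf_left _ (centralizer_le (show (Y : Set G) ⊆ (Y' : Set G) from (le_sup_left : Y ≤ Y')))
    · refine le_inf inf_le_left ?_
      apply cent_symm
      refine sup_le (cent_symm inf_le_right) (sup_le ?_ ?_)
      · exact cent_symm (inf_le_left.trans inf_le_right)
      · exact inf_le_right.trans (centralizer_le (inf_le_left.trans inf_le_left))
  rw [← h8]
  exact h7.trans h6

/-- `C_U(C_A(V)) = V C_U(A)` -/
theorem cU_inf {A : Subgroup G} (o : O5 S P P2 A) (hAV : ¬ A ≤ centralizer (zl (S : Subgroup G) P : Set G)) :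
    cl (zl (S : Subgroup G) P) P2 ⊓
        centralizer ((A ⊓ centralizer (zl (S : Subgroup G) P : Set G) : Subgroup G) : Set G) ≤
      zl (S : Subgroup G) P ⊔ (cl (zl (S : Subgroup G) P) P2 ⊓ centralizer (A : Set G)) := by
  obtain ⟨r1, r2⟩ := h.root o hAV
  set U := cl (zl (S : Subgroup G) P) P2 with hU
  set V := zl (S : Subgroup G) P with hV
  set A2 := A ⊓ centralizer (V : Set G) with hA2
  set C := centralizer (A : Set G) with hC
  set Y := U ⊓ centralizer (A2 : Set G) with hY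
  have hVY : V ≤ Y := le_inf h.V_le_U (cent_symm inf_le_right)
  have hMY : V ⊔ (U ⊓ C) ≤ Y := sup_le hVY (inf_le_inf_left _ (centralizer_le inf_le_left))
  have h1 : C.relIndex Y ≤ 4 := by
    refine (o.off Y inf_le_left).trans ?_
    rw [← r2, ← inf_relIndex_left A (centralizer (V : Set G))]
    exact Nat.le_of_dvd (relIndex_pos _ _) (relIndex_dvd_of_le_left A (cent_symm inf_le_right))
  have h2 : Y ⊓ C ≤ V ⊔ (U ⊓ C) := le_trans (fun y hy => (⟨hy.1.1, hy.2⟩ : y ∈ U ⊓ C)) le_sup_right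
  have h3 := relIndex_mul_of (H := C) h2 hMY
  have h4 : 4 ≤ C.relIndex (V ⊔ (U ⊓ C)) := by
    rw [← r1]
    exact relIndex_le_of_le_right le_sup_left (relIndex_pos _ _).ne'
  have h5 := relIndex_pos (V ⊔ (U ⊓ C)) Y
  have h7 : (V ⊔ (U ⊓ C)).relIndex Y = 1 := by
    by_contra hcon
    have h8 : 2 ≤ (V ⊔ (U ⊓ C)).relIndex Y := by omega
    have h9 := Nat.mul_le_mul h4 h8
    omega
  exact relIndex_eq_one.1 h7

/-- an offender `A ≰ O₂(P₂)` moves `V` -/
theorem moves_V (hAS : FFBr.AStmt.{u}) {A : Subgroup G} (o : O5 S P P2 A) :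
    ¬ A ≤ centralizer (zl (S : Subgroup G) P : Set G) := fun h0 =>
  o.nQ (h.dih (h.two_of hAS o) o.le o.elem o.off h0)

/-- **THEOREM: one offender `A ≰ O₂(P₂)` ⟹ `P₂ ≤ N_G(V)`** -/
theorem norm_V (hAS : FFBr.AStmt.{u}) {A : Subgroup G} (o : O5 S P P2 A) :
    P2 ≤ normalizer (zl (S : Subgroup G) P : Set G) := by
  have hn := h.norm_V3 hAS o
  have hidx := h.two_of hAS o
  have hAV := h.moves_V hAS o
  have hX := h.X_eq hn
  set A2 := A ⊓ centralizer (zl (S : Subgroup G) P : Set G) with hA2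
  have h1 : A2 ≤ o2 P2 := h.dih hidx (inf_le_left.trans o.le)
    { sq := fun a ha => o.elem.sq a ha.1
      comm := fun a ha b hb => o.elem.comm a ha.1 b hb.1 } (fun Y hY => h.off_inf o hAV hY) inf_le_right
  have h2 : A2 ≤ centralizer (cl (zl (S : Subgroup G) P) P2 : Set G) := fun a ha =>
    h.cent_U_of_X hX.ge (h1 ha) (by rw [hX]; exact centralizer_le h.mod.V3_le ha.2)
  have h3 : cl (zl (S : Subgroup G) P) P2 ≤
      zl (S : Subgroup G) P ⊔ (cl (zl (S : Subgroup G) P) P2 ⊓ centralizer (A : Set G)) :=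
    (le_inf le_rfl (cent_symm h2)).trans (h.cU_inf o hAV)
  -- `A` acts trivially on `U / X`
  have h4 : oddGen P2 ≤ kmod P2 (cl (zl (S : Subgroup G) P) P2) (cl R P2) h.U_norm h.X_norm := by
    rcases h.min_or (kmod_le (h1 := h.U_norm) (h2 := h.X_norm)) h.kmod_UX_norm with h5 | h5
    · exact h5
    · exfalso
      apply o.nQ
      refine le_trans (fun a ha => ?_) h5
      have haP := h.S_le (o.le ha)
      refine ⟨o.le ha, haP, fun u hu => ?_⟩
      have hcom : ∀ p ∈ zl (S : Subgroup G) P, ∀ q ∈ cl (zl (S : Subgroup G) P) P2 ⊓ centralizer (A : Set G),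
          p * q = q * p := fun p hp q hq => h.U_mul (h.V_le_U hp) hq.1
      obtain ⟨v, hv, c, hc, rfl⟩ := mem_sup_comm hcom (h3 hu)
      rw [h.comm_mul haP (h.V_le_U hv) hc.1]
      have h10 := mem_centralizer_iff.1 hc.2 a ha
      rw [h10, mul_inv_cancel_right, mul_inv_cancel, mul_one, hX]
      exact h.comm_VS (o.le ha) hv
  refine h.sup_S.ge.trans (sup_le ?_ h.mod.S_V)
  refine le_normalizer_of_forall fun e he v hv => ?_
  have h6 := (h4 he).2 v (h.V_le_U hv)
  rw [hX] at h6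
  have h7 := mul_mem (h.mod.V3_le h6) hv
  rwa [inv_mul_cancel_right] at h7

theorem sylP : Syl (S : Subgroup G) P := h.hyp.syl

theorem S_le_P : (S : Subgroup G) ≤ P := h.sylP.1

section crd

variable {F : Type*} [Field F] [CharP F 2] (M : Crd F (S : Subgroup G) P (zl (S : Subgroup G) P))
  (hF : Nat.card F = 4) (hMR : M.R = R)
include hF hMR

theorem exists_fld : ∃ s ∈ (S : Subgroup G), ∃ σ c, M.Act s σ c ∧ σ ≠ RingEquiv.refl F := by
  obtain ⟨s, hs, hsR⟩ := SetLike.not_le_iff_exists.1 h.mod.fld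
  obtain ⟨σ, c, h1⟩ := M.exists_act hs
  refine ⟨s, hs, σ, c, h1, fun h0 => hsR ?_⟩
  rw [← hMR]
  exact h1.mem_centR.2 h0

theorem zz_eq : FourEnd.zz M = z := by
  have hz := h.z_mem_R
  rw [← hMR] at hz
  obtain ⟨a, ha⟩ := hz
  obtain ⟨s, hs, σ, c, h1, hσ⟩ := h.exists_fld M hF hMR
  have h2 := h1 ![a, 0]
  rw [ha] at h2
  have h3 := h.z_comm (h.S_le hs)
  rw [h3, mul_inv_cancel_right, ← ha] at h2
  have h4 := congrFun (M.e_inj h2) 0
  simp only [Matrix.cons_val_zero] at h4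
  have h5 : a = σ a := by simpa using h4
  rcases of_sig_eq hF hσ h5.symm with h6 | h6
  · exfalso
    apply h.mod.z_ne
    rw [← ha, h6, ← M.e_zero]
    congr 1
    apply ext2 <;> simp
  · rw [← ha, h6]
    rfl

/-- **`P₂ ≤ N_G(V)` gives a `P₁` with `|V_{P₁}| = 4`** -/
theorem exists_four (hV : P2 ≤ normalizer (zl (S : Subgroup G) P : Set G)) :
    ∃ P1 : Subgroup G, IsParS (S : Subgroup G) P1 ∧ P1 ≤ P ∧ NonLoc P1 (CZ (S : Subgroup G)) ∧
      Nat.card (zl (S : Subgroup G) P1) = 4 := by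
  have hz := h.zz_eq M hF hMR
  have hfld := h.exists_fld M hF hMR
  have hPV : P ≤ normalizer (zl (S : Subgroup G) P : Set G) := le_normalizer_zl _ _
  have hP2H : P2 ≤ FourEnd.HH M := by
    intro p hp
    rw [FourEnd.mem_HH]
    refine ⟨hV hp, ?_⟩
    rw [hz]
    exact h.z_comm hp
  have hR : ¬ FourEnd.HH M ≤ normalizer (M.R : Set G) := by
    intro h0
    apply h.mv
    rw [← hMR]
    exact hP2H.trans h0
  have h3 := FourEnd.not_V3 M hPV hF hR
  have hfus : ∀ x y : Fin 2 → F, M.e x ∉ zpowers z → M.e y ∉ zpowers z → FourEnd.Fus M (M.e x) (M.e y) := by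
    intro x y hx hy
    rw [← hz] at hx hy
    exact FourEnd.fus M hF hfld hR h3 hx hy
  -- the torus
  obtain ⟨w, hw0, hw1⟩ := exists_ne hF
  obtain ⟨k, hkP, hk⟩ := M.lift (dg w hw0)
  have hk' : ∀ x : Fin 2 → F, k * M.e x * k⁻¹ = M.e ![w * x 0, w⁻¹ * x 1] := by
    intro x
    rw [hk]
    congr 1
    apply ext2
    · rw [ap_zero', dg, mk_00, mk_01]; simp
    · rw [ap_one', dg, mk_10, mk_11]; simp
  have hkR : k ∈ normalizer (R : Set G) := by
    rw [← hMR, mem_normalizer_iff_cj]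
    refine Subgroup.eq_of_le_of_card_ge ?_ ?_
    · rintro _ ⟨r, ⟨a, rfl⟩, rfl⟩
      show k * M.e ![a, 0] * k⁻¹ ∈ M.R
      rw [hk', M.e_mem_R]
      simp
    · rw [card_cj]
  have hL : IsLoc (S : Subgroup G) (P ⊓ normalizer (R : Set G)) :=
    h.hyp.star.isLoc.of_le S (le_inf h.S_le_P h.mod.S_R) inf_le_left
  have hLn : ¬ P ⊓ normalizer (R : Set G) ≤ normalizer (zc (S : Subgroup G) : Set G) := by
    intro h0
    have hkk : k ∈ P ⊓ normalizer (R : Set G) := ⟨hkP, hkR⟩
    have hzz : z ∈ zc (S : Subgroup G) := by rw [h.zS]; exact mem_zpowers z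
    have h1 := conj_mem' h0 hkk hzz
    rw [h.zS, ← hz, FourEnd.zz, hk'] at h1
    have h2 := (FourEnd.e_mem_zpowers M).1 h1
    simp only [Matrix.cons_val_zero, mul_one] at h2
    rcases h2.2 with h3 | h3
    · exact hw0 h3
    · exact hw1 h3
  obtain ⟨P1, hP1, hP1L, hP1n⟩ := IsLoc.exists_not_le S hL (inf_le_right.trans (normalizer_le_normalizer_zc _)) hLn
  have hP1S : IsParS (S : Subgroup G) P1 := ⟨hP1, hP1n⟩
  have hP1P : P1 ≤ P := hP1L.trans inf_le_left
  have hP1R : P1 ≤ normalizer (R : Set G) := hP1L.trans inf_le_right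
  refine ⟨P1, hP1S, hP1P, ?_, ?_⟩
  · intro U hU hU1 hU2
    refine h.hyp.nonLoc U hU (hPV.trans ?_) hU2
    obtain ⟨p, hp, hpz⟩ : ∃ p ∈ P1, p * z * p⁻¹ ∉ zpowers z := by
      by_contra hcon
      push Not at hcon
      apply hP1n
      rw [h.zS]
      refine le_normalizer_of_forall fun g hg v hv => ?_
      rcases h.mem_zpowers_iff'.1 hv with rfl | rfl
      · rw [mul_one, mul_inv_cancel]
        exact one_mem _
      · exact hcon g hg
    have hHU : FourEnd.HH M ≤ normalizer (U : Set G) := by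
      intro g hg
      apply hU2
      rw [mem_centralizer_iff]
      intro v hv
      rw [h.zS] at hv
      have hc : g * z = z * g := by
        have := ((FourEnd.mem_HH M).1 hg).2
        rwa [hz] at this
      rcases h.mem_zpowers_iff'.1 hv with rfl | rfl
      · rw [one_mul, mul_one]
      · exact hc.symm
    intro g hg
    obtain ⟨y, hy⟩ := FourEnd.exists_y M hg ![1, 0]
    have hzg : g * z * g⁻¹ = M.e y := by rw [← hz]; exact hy
    by_cases hyz : M.e y ∈ zpowers z
    · apply hHU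
      rw [FourEnd.mem_HH, hz]
      refine ⟨hg, ?_⟩
      rcases h.mem_zpowers_iff'.1 hyz with h4 | h4
      · rw [h4, conj_eq_one_iff] at hzg
        exact absurd hzg h.mod.z_ne
      · rw [h4, mul_inv_eq_iff_eq_mul] at hzg
        exact hzg
    · obtain ⟨x, hx⟩ := FourEnd.exists_y M (hPV (hP1P hp)) ![1, 0]
      have hzp : p * z * p⁻¹ = M.e x := by rw [← hz]; exact hx
      rw [hzp] at hpz
      obtain ⟨c, hc, hcx⟩ := hfus x y hpz hyz
      have h5 : g⁻¹ * c * p ∈ FourEnd.HH M := by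
        rw [FourEnd.mem_HH, hz]
        refine ⟨mul_mem (mul_mem (inv_mem hg) ((FourEnd.mem_HH M).1 hc).1) (hPV (hP1P hp)), ?_⟩
        rw [← mul_inv_eq_iff_eq_mul]
        have e1 : g⁻¹ * c * p * z * (g⁻¹ * c * p)⁻¹ = g⁻¹ * (c * (p * z * p⁻¹) * c⁻¹) * g := by group
        rw [e1, hzp, hcx, ← hzg]
        group
      have e2 : g = c * p * (g⁻¹ * c * p)⁻¹ := by group
      rw [e2]
      exact mul_mem (mul_mem (hHU hc) (hU1 hp)) (inv_mem (hHU h5))
  · have h4 : zl (S : Subgroup G) P1 ≤ R := by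
      refine iSup_le fun g => ?_
      have h5 : (zc (S : Subgroup G)).map (MulAut.conj (g : G)).toMonoidHom = cj (g : G) (zc (S : Subgroup G)) := rfl
      rw [h5, h.zS]
      have h6 := cj_mono (g : G) h.zpowers_le_R
      rwa [cj_of_le hP1R g.2] at h6
    have h5 : zpowers z ≤ zl (S : Subgroup G) P1 := by rw [← h.zS]; exact zc_le_zl _ _
    have h6 : Nat.card (zpowers z) = 2 := by
      rw [Nat.card_zpowers]
      exact orderOf_eq_prime (by rw [pow_two]; exact h.z_sq) h.mod.z_ne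
    have h7 : 2 < Nat.card (zl (S : Subgroup G) P1) := by
      by_contra hcon
      push Not at hcon
      have h8 : zpowers z = zl (S : Subgroup G) P1 := Subgroup.eq_of_le_of_card_ge h5 (by rw [h6]; exact hcon)
      apply hP1n
      rw [h.zS, h8]
      exact le_normalizer_zl _ _
    have h8 : Nat.card (zl (S : Subgroup G) P1) ∣ 4 := by
      rw [← h.mod.cardR]
      exact card_dvd_of_le h4
    have h9 : Nat.card (zl (S : Subgroup G) P1) ≤ 4 := Nat.le_of_dvd (by norm_num) h8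
    interval_cases hc : Nat.card (zl (S : Subgroup G) P1)
    · exact absurd h8 (by decide)
    · rfl

end crd

end B5

end Cfsg.Agent.Omega.NO3S.Fld.WFour
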