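import Cfsg.Agent.Omega.NO3S.Fld.WFour.Plug
import Cfsg.Agent.Omega.NO3S.Fld.LevRed

/-!
# The FF-LEMMA for one offender on `U = ⟨V^P₂⟩`

`X ∈ P(S)`, `X ≤ C_G(Z)`, `U = ⟨V^X⟩`; `A ≤ S`, `A ≰ O₂(X)`, el. abelian mod `C(U)`, offends on `Y = U ∩ Ω₁(Z(O₂(X)))`:

* `ff_of_off` : `O²(X)` centralises `Y`;
* `not_o2_cent_of` : if `X` moves `R ≤ V`, `S ≤ N(R)`, then `O₂(X)` moves `R` elementwise;
* `O5.ff`, `O5.nQR`; `false_of_o5'` : the one-offender theorem for `q = 4` without the hypothesis `nQR`.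
-/

set_option autoImplicit false

namespace Cfsg.Agent.Omega.NO3S.Fld.WFour

open Subgroup Cfsg Cfsg.Agent.ZN Cfsg.Agent.ZN.ChoiceBase Cfsg.Agent.Omega.MinPar Cfsg.Agent.Omega.FrameNOFF
open Cfsg.Agent.ZN.ChoiceSit (Syl)
open Cfsg.Agent.MinSimple.MinParabolic (IsMinPar)
open Cfsg.Agent.MinSimple.VModule (oddGen oddGen_le)
open Cfsg.Agent.Omega.NO3b.EZero (cl cl_le cj_le_cl le_cl le_normalizer_cl oddGen_sup_syl cent_symm)
open Cfsg.Agent.Omega.NO3b.K0 (cj_of_le cj_self)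
open Cfsg.Agent.Omega.NO3S.NotFF (normalizer_inf)

universe u

variable {G : Type u} [Group G] [Finite G] {S : Sylow 2 G} {P X R : Subgroup G}

/-- **FF-LEMMA** for one offender on `U ∩ Ω₁(Z(O₂(X)))`. -/
theorem ff_of_off (hmin : IsMinPar (S : Subgroup G) X) (hXZ : X ≤ CZ (S : Subgroup G))
    {A : Subgroup G} (hAS : A ≤ (S : Subgroup G)) (hAQ : ¬ A ≤ o2 X)
    (hE : FFThm.ElemM (cl (zl (S : Subgroup G) P) X) A)
    (hoff : (centralizer (A : Set G)).relIndex (cl (zl (S : Subgroup G) P) X ⊓ zc (o2 X) : Subgroup G) ≤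
      (centralizer ((cl (zl (S : Subgroup G) P) X ⊓ zc (o2 X) : Subgroup G) : Set G)).relIndex A) :
    cl (zl (S : Subgroup G) P) X ⊓ zc (o2 X) ≤ centralizer (oddGen X : Set G) := by
  have hT : Syl (S : Subgroup G) X := ⟨hmin.le, S.isPGroup', fun _ _ hT hST => S.is_maximal' hT hST⟩
  refine ff_lemma_off FF.Glob.aStmt hT hmin (inf_le_right.trans ((ZN.zc_le _).trans (ChoiceSit.o2_le X)))
    (fun y hy => ZN.zc_sq hy.2)
    ((inf_le_right.trans (ZN.zc_le_centralizer _)).trans (centralizer_le (inf_le_right.trans (ZN.zc_le _))))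
    (normalizer_inf (le_normalizer_cl _ _) ((ZN.le_normalizer_o2 X).trans (normalizer_le_normalizer_zc _)))
    ((ZN.le_centralizer_zc _).trans (centralizer_le inf_le_right)) ?_ hAS hAQ
    ⟨fun a ha => centralizer_le inf_le_left (hE.sq a ha), fun a ha b hb => centralizer_le inf_le_left (hE.comm a ha b hb)⟩
    (FFThm.relIndex_le_iff.2 hoff)
  rintro y ⟨⟨-, hy⟩, hyT⟩
  have h1 : y ∈ zc (S : Subgroup G) := ZN.mem_zc.2 ⟨ChoiceSit.o2_le_syl hT (ZN.zc_le _ hy),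
    fun b hb => mem_centralizer_iff.1 hyT b hb, ZN.zc_sq hy⟩
  rw [mem_centralizer_iff]
  intro x hx
  exact (mem_centralizer_iff.1 (hXZ (oddGen_le X hx)) y h1).symm

/-- If `U ∩ Ω₁(Z(O₂(X))) ≤ C(O²(X))` and `X` moves `R`, then `O₂(X) ≰ C(R)`. -/
theorem not_o2_cent_of (h : Hyp S P) (hmin : IsMinPar (S : Subgroup G) X) (hXZ : X ≤ CZ (S : Subgroup G))
    (hRV : R ≤ zl (S : Subgroup G) P) (hSR : (S : Subgroup G) ≤ normalizer (R : Set G))
    (mv : ¬ X ≤ normalizer (R : Set G))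
    (hff : cl (zl (S : Subgroup G) P) X ⊓ zc (o2 X) ≤ centralizer (oddGen X : Set G)) :
    ¬ o2 X ≤ centralizer (R : Set G) := by
  intro h0
  have hT : Syl (S : Subgroup G) X := ⟨hmin.le, S.isPGroup', fun _ _ hT hST => S.is_maximal' hT hST⟩
  have hRU : R ≤ cl (zl (S : Subgroup G) P) X := hRV.trans (le_cl _ _)
  have hUW : cl (zl (S : Subgroup G) P) X ≤ WW (S : Subgroup G) P := cl_le fun x hx => conj_zl_le_WW (hXZ hx)
  have hUX : cl (zl (S : Subgroup G) P) X ≤ X := cl_le fun x hx => by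
    have h1 := cj_mono x (h.V_le_S.trans hmin.le)
    rwa [cj_eq_of_mem_normalizer (Subgroup.le_normalizer hx)] at h1
  have hUp : IsPGroup 2 (cl (zl (S : Subgroup G) P) X) := fun x =>
    ⟨1, Subtype.ext (by simpa using h.W_sq x (hUW x.2))⟩
  have hUQ : cl (zl (S : Subgroup G) P) X ≤ o2 X := ChoiceSit.le_o2 hUp hUX (le_normalizer_cl _ _)
  have h1 : R ≤ zc (o2 X) := fun r hr => ZN.mem_zc.2 ⟨hUQ (hRU hr),
    fun y hy => (mem_centralizer_iff.1 (h0 hy) r hr).symm, h.W_sq r (hUW (hRU hr))⟩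
  have h2 : oddGen X ≤ centralizer (R : Set G) := cent_symm ((le_inf hRU h1).trans hff)
  apply mv
  rw [← oddGen_sup_syl hT]
  exact sup_le (h2.trans (centralizer_le_normalizer _)) hSR

theorem O5.ff {A : Subgroup G} (hmin : IsMinPar (S : Subgroup G) X) (hXZ : X ≤ CZ (S : Subgroup G))
    (o : O5 S P X A) : cl (zl (S : Subgroup G) P) X ⊓ zc (o2 X) ≤ centralizer (oddGen X : Set G) :=
  ff_of_off hmin hXZ o.le o.nQ o.elem (o.off _ inf_le_left)

/-- **THEOREM SINGLE, `q = 4`.** -/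
theorem false_of_o5' {F : Type*} [Field F] [Finite F] [CharP F 2] (h : HypF S P)
    (M : Crd F (S : Subgroup G) P (zl (S : Subgroup G) P))
    (hF : Nat.card F = 4) (hZ : Nat.card (zc (S : Subgroup G)) ≠ 4) (par : IsPar (S : Subgroup G) X)
    (le : X ≤ CZ (S : Subgroup G)) (mv : ¬ X ≤ normalizer (M.R : Set G)) {A : Subgroup G} (o : O5 S P X A) : False :=
  false_of_o5 h M hF hZ par le mv
    (not_o2_cent_of h.toHyp par.toIsMinPar le M.R_le M.S_R mv (o.ff par.toIsMinPar le)) o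

end Cfsg.Agent.Omega.NO3S.Fld.WFour
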